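import Mathlib
import Cfsg.Prelude.Def_TwoFusion
import Cfsg.Prelude.Def_Involutions
import Cfsg.Agent.Lib.PGroup.Basic

/-!
# Aschbacher's criterion as a hypothesis, and the first consequence for strongly closed subgroups

`Criterion` is the statement of Aschbacher's criterion for strong embedding.  From it: if the
centralisers of the involutions of a nontrivial strongly closed subgroup generate a proper subgroup
of a simple group, there is a strongly embedded subgroup.
-/

set_option autoImplicit false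
set_option linter.style.haveILetI false
set_option linter.unusedSectionVars false

namespace Cfsg.Agent.AschCrit23

open Subgroup
open scoped Pointwise

universe u

/-- Aschbacher's criterion for strong embedding. -/
def Criterion : Prop :=
  ∀ (G : Type u) [Group G] [Finite G] [IsSimpleGroup G] (M : Subgroup G), M ≠ ⊤ →
    ∀ z : G, orderOf z = 2 → z ∈ M → (∃ S : Sylow 2 G, z ∈ S ∧ ∀ s ∈ S, Commute s z) →
      (∀ g : G, g * z * g⁻¹ ∈ M → g ∈ M) →
      (∀ g : G, Commute z (g * z * g⁻¹) → g * z * g⁻¹ ≠ z →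
        Subgroup.centralizer ({z * (g * z * g⁻¹)} : Set G) ≤ M) →
      ∃ H : Subgroup G, Cfsg.IsStronglyEmbedded H

variable {G : Type u} [Group G] [Finite G]

theorem orderOf_conj (g x : G) : orderOf (g * x * g⁻¹) = orderOf x :=
  orderOf_injective (MulAut.conj g).toMonoidHom (MulAut.conj g).injective x

/-- A subgroup strongly closed in a 2-group containing it meets the centre of that 2-group. -/
theorem exists_central_involution (S : Sylow 2 G) {T : Subgroup G} (hT1 : T ≠ ⊥)
    (hT : Cfsg.IsStronglyClosed T (S : Subgroup G)) :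
    ∃ z ∈ T, orderOf z = 2 ∧ ∀ s ∈ S, Commute s z := by
  haveI : Fact (Nat.Prime 2) := ⟨Nat.prime_two⟩
  set P : Subgroup G := (S : Subgroup G) with hP
  haveI hn : (T.subgroupOf P).Normal := by
    refine ⟨fun x hx g => ?_⟩
    exact hT.2 _ hx (g : G) (P.mul_mem (P.mul_mem g.2 x.2) (P.inv_mem g.2))
  have hTne : T.subgroupOf P ≠ ⊥ := by
    intro h
    apply hT1
    rw [eq_bot_iff]
    intro x hx
    have : (⟨x, hT.1 hx⟩ : P) ∈ T.subgroupOf P := hx
    rw [h, mem_bot] at this
    exact congrArg Subtype.val this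
  have hne := Cfsg.Agent.PGroup.inf_center_ne_bot S.isPGroup' hTne
  obtain ⟨x, hx, hx1⟩ := (Subgroup.bot_or_exists_ne_one _).resolve_left hne
  obtain ⟨k, hk⟩ := S.isPGroup' x
  have h2 : 2 ∣ orderOf x := by
    obtain ⟨j, hj, hj'⟩ := (Nat.dvd_prime_pow Nat.prime_two).1 (orderOf_dvd_of_pow_eq_one hk)
    rw [hj']
    refine dvd_pow_self 2 ?_
    rintro rfl
    exact hx1 (orderOf_eq_one_iff.1 (by simpa using hj'))
  set y := x ^ (orderOf x / 2) with hy
  have hyo : orderOf y = 2 := orderOf_pow_orderOf_div (orderOf_pos x).ne' h2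
  have hym : y ∈ T.subgroupOf P ⊓ Subgroup.center P := pow_mem hx _
  refine ⟨(y : G), hym.1, by rw [Subgroup.orderOf_coe]; exact hyo, fun s hs => ?_⟩
  have := Subgroup.mem_center_iff.1 hym.2 ⟨s, hs⟩
  exact congrArg Subtype.val this

variable [IsSimpleGroup G]

theorem strongly_closed_of (hC : Criterion.{u}) (S : Sylow 2 G) (T : Subgroup G) (hT1 : T ≠ ⊥)
    (hT : Cfsg.IsStronglyClosed T (S : Subgroup G))
    (hprop : (⨆ t : {t : G // t ∈ T ∧ orderOf t = 2},
      Subgroup.centralizer ({(t : G)} : Set G)) ≠ ⊤) :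
    ∃ H : Subgroup G, Cfsg.IsStronglyEmbedded H := by
  haveI : Fact (Nat.Prime 2) := ⟨Nat.prime_two⟩
  obtain ⟨z, hzT, hz, hzS⟩ := exists_central_involution S hT1 hT
  set M0 : Subgroup G := ⨆ t : {t : G // t ∈ T ∧ orderOf t = 2},
      Subgroup.centralizer ({(t : G)} : Set G) with hM0
  set M : Subgroup G := Subgroup.normalizer (M0 : Set G) with hM
  have hle : ∀ t ∈ T, orderOf t = 2 → Subgroup.centralizer ({t} : Set G) ≤ M0 := fun t ht ht2 =>
    le_iSup (fun t : {t : G // t ∈ T ∧ orderOf t = 2} =>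
      Subgroup.centralizer ({(t : G)} : Set G)) ⟨t, ht, ht2⟩
  have hM0M : M0 ≤ M := Subgroup.le_normalizer
  have hzC : z ∈ Subgroup.centralizer ({z} : Set G) := mem_centralizer_singleton_iff.2 rfl
  have hzM : z ∈ M := hM0M (hle z hzT hz hzC)
  have hSC : (S : Subgroup G) ≤ Subgroup.centralizer ({z} : Set G) := fun s hs =>
    mem_centralizer_singleton_iff.2 (hzS s hs)
  have hSM0 : (S : Subgroup G) ≤ M0 := hSC.trans (hle z hzT hz)
  -- the normaliser of the Sylow subgroup lies in `M`
  have hNS : ∀ n : G, (∀ x, x ∈ S ↔ n * x * n⁻¹ ∈ S) → n ∈ M := by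
    intro n hn
    have key : ∀ m : G, (∀ x ∈ S, m * x * m⁻¹ ∈ S) → ∀ a ∈ M0, m * a * m⁻¹ ∈ M0 := by
      intro m hm a ha
      suffices M0 ≤ M0.comap (MulAut.conj m).toMonoidHom from this ha
      refine iSup_le fun t => ?_
      intro a ha
      have ht : m * (t : G) * m⁻¹ ∈ T := hT.2 _ t.2.1 m (hm _ (hT.1 t.2.1))
      refine hle _ ht (by rw [orderOf_conj]; exact t.2.2) (mem_centralizer_singleton_iff.2 ?_)
      have := mem_centralizer_singleton_iff.1 ha
      simp only [MulEquiv.toMonoidHom_eq_coe, MonoidHom.coe_coe, MulAut.conj_apply]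
      calc m * a * m⁻¹ * (m * t * m⁻¹) = m * (a * t) * m⁻¹ := by group
        _ = m * (t * a) * m⁻¹ := by rw [this]
        _ = _ := by group
    rw [hM, Subgroup.mem_normalizer_iff]
    intro a
    refine ⟨key n (fun x hx => (hn x).1 hx) a, fun ha => ?_⟩
    have := key n⁻¹ (fun x hx => (hn _).2 (by simpa [mul_assoc] using hx)) _ ha
    simpa [mul_assoc] using this
  -- two conjugates of `z` in `T` differ by an element of `M`
  have hfus : ∀ h : G, h * z * h⁻¹ ∈ T → h ∈ M := by
    intro h hh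
    have hu : orderOf (h * z * h⁻¹) = 2 := by rw [orderOf_conj, hz]
    let S' : Sylow 2 G := (MulAut.conj h) • S
    have hS' : (S' : Subgroup G) ≤ M0 := by
      intro x hx
      obtain ⟨s, hs, rfl⟩ := Set.mem_smul_set.1 (show x ∈ MulAut.conj h • (S : Set G) from hx)
      refine hle _ hh hu (mem_centralizer_singleton_iff.2 ?_)
      have : s * z = z * s := hzS s hs
      simp only [MulAut.smul_def, MulAut.conj_apply]
      calc h * s * h⁻¹ * (h * z * h⁻¹) = h * (s * z) * h⁻¹ := by group
        _ = h * (z * s) * h⁻¹ := by rw [this]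
        _ = _ := by group
    obtain ⟨c, hc⟩ := MulAction.exists_smul_eq ↥M0 (S.subtype hSM0) (S'.subtype hS')
    rw [Sylow.smul_subtype] at hc
    have hcS : (c : G) • S = S' := Sylow.subtype_injective hc
    have hfix : ((c : G)⁻¹ * h) • S = S := by
      have : (MulAut.conj h) • S = h • S := rfl
      rw [mul_smul, ← this]
      exact inv_smul_eq_iff.2 hcS.symm
    have hmem : (c : G)⁻¹ * h ∈ M := by
      refine hNS _ fun x => ?_
      have := Sylow.smul_eq_iff_mem_normalizer.1 hfix
      exact Subgroup.mem_normalizer_iff.1 this x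
    simpa using M.mul_mem (hM0M c.2) hmem
  have h2 : ∀ g : G, g * z * g⁻¹ ∈ M → g ∈ M := by
    intro g hg
    have hgo : orderOf (g * z * g⁻¹) = 2 := by rw [orderOf_conj, hz]
    obtain ⟨P, hP⟩ := (IsPGroup.of_card (n := 1) (G := ↥(Subgroup.zpowers (⟨_, hg⟩ : M)))
      (by rw [Nat.card_zpowers, ← Subgroup.orderOf_coe, hgo, pow_one])).exists_le_sylow
    obtain ⟨m, hm⟩ := MulAction.exists_smul_eq ↥M P (S.subtype (hSM0.trans hM0M))
    have hmem : m * (⟨_, hg⟩ : M) * m⁻¹ ∈ S.subtype (hSM0.trans hM0M) := by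
      rw [← hm]
      exact Set.smul_mem_smul_set (a := MulAut.conj m) (hP (Subgroup.mem_zpowers _))
    have hmS : ((m : G) * g) * z * ((m : G) * g)⁻¹ ∈ S := by
      have : ((m * (⟨_, hg⟩ : M) * m⁻¹ : M) : G) ∈ S := hmem
      simpa [mul_assoc] using this
    have := hfus _ (hT.2 _ hzT _ hmS)
    simpa using M.mul_mem (M.inv_mem m.2) this
  have hMtop : M ≠ ⊤ := by
    intro h
    haveI : M0.Normal := Subgroup.normalizer_eq_top_iff.1 h
    rcases (inferInstance : M0.Normal).eq_bot_or_eq_top with h' | h'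
    · have : z ∈ M0 := hle z hzT hz hzC
      rw [h', mem_bot] at this
      rw [this, orderOf_one] at hz
      omega
    · exact hprop h'
  refine hC G M hMtop z hz hzM ⟨S, hT.1 hzT, hzS⟩ h2 fun g hc hne => ?_
  set w := g * z * g⁻¹ with hw
  have hwC : w ∈ Subgroup.centralizer ({z} : Set G) := mem_centralizer_singleton_iff.2 hc.symm
  have hwo : orderOf w = 2 := by rw [hw, orderOf_conj, hz]
  obtain ⟨P, hP⟩ := (IsPGroup.of_card (n := 1)
    (G := ↥(Subgroup.zpowers (⟨w, hwC⟩ : Subgroup.centralizer ({z} : Set G))))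
      (by rw [Nat.card_zpowers, ← Subgroup.orderOf_coe, hwo, pow_one])).exists_le_sylow
  obtain ⟨c, hc'⟩ := MulAction.exists_smul_eq ↥(Subgroup.centralizer ({z} : Set G)) P (S.subtype hSC)
  have hcw : ((c : G) * w * (c : G)⁻¹) ∈ S := by
    have : c * (⟨w, hwC⟩ : Subgroup.centralizer ({z} : Set G)) * c⁻¹ ∈ S.subtype hSC := by
      rw [← hc']
      exact Set.smul_mem_smul_set (a := MulAut.conj c) (hP (Subgroup.mem_zpowers _))
    exact this
  have hcwT : (c : G) * w * (c : G)⁻¹ ∈ T := by
    have e : (c : G) * w * (c : G)⁻¹ = ((c : G) * g) * z * ((c : G) * g)⁻¹ := by rw [hw]; group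
    rw [e] at hcw ⊢
    exact hT.2 _ hzT _ hcw
  have hcz : (c : G) * z = z * (c : G) := mem_centralizer_singleton_iff.1 c.2
  have he : (c : G) * (z * w) * (c : G)⁻¹ = z * ((c : G) * w * (c : G)⁻¹) := by
    rw [← mul_assoc, hcz]; group
  have ho : orderOf (z * w) = 2 := by
    refine orderOf_eq_prime ?_ ?_
    · rw [pow_two, mul_assoc, ← mul_assoc w z w, ← hc.eq, mul_assoc z w w, ← pow_two w, ← hwo,
        pow_orderOf_eq_one, mul_one, ← pow_two, ← hz, pow_orderOf_eq_one]
    · intro h
      refine hne ?_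
      have : z⁻¹ = z := by
        rw [inv_eq_iff_mul_eq_one, ← pow_two, ← hz, pow_orderOf_eq_one]
      rw [← this]
      exact eq_inv_of_mul_eq_one_right h
  have hmem : (c : G) * (z * w) * (c : G)⁻¹ ∈ T := by rw [he]; exact T.mul_mem hzT hcwT
  intro x hx
  have hxc : (c : G) * x * (c : G)⁻¹ ∈ M := by
    refine hM0M (hle _ hmem (by rw [orderOf_conj, ho]) (mem_centralizer_singleton_iff.2 ?_))
    have : x * (z * w) = (z * w) * x := mem_centralizer_singleton_iff.1 hx
    calc (c : G) * x * (c : G)⁻¹ * ((c : G) * (z * w) * (c : G)⁻¹)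
        = (c : G) * (x * (z * w)) * (c : G)⁻¹ := by group
      _ = (c : G) * ((z * w) * x) * (c : G)⁻¹ := by rw [this]
      _ = _ := by group
  have hcM : (c : G) ∈ M := hM0M (hle z hzT hz c.2)
  simpa [mul_assoc] using M.mul_mem (M.mul_mem (M.inv_mem hcM) hxc) hcM

end Cfsg.Agent.AschCrit23
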